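import Mathlib
import Groth.Agent.Lib.Helper5.Glue.C
import Groth.Agent.Lib.Helper1.ThickAff6

/-! # Lifting a power of a function along a square-zero thickening of a quasi-affine scheme -/

set_option autoImplicit false
universe u
open CategoryTheory Limits AlgebraicGeometry TopologicalSpace Opposite

namespace Groth.Agent.H5.QAff

open Groth.Agent.H5.Glue Groth.Agent.H1.ThickAff

section Alg

variable {R : Type*} [CommRing R]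

lemma add_pow_of_mul_self_eq_zero (y c : R) (hc : c * c = 0) (n : ℕ) :
    (y + c) ^ (n + 1) = y ^ (n + 1) + ((n + 1 : ℕ) : R) * y ^ n * c := by
  induction n with
  | zero => simp
  | succ n ih =>
    rw [pow_succ, ih]
    push_cast
    linear_combination ((n + 1 : R) * y ^ n) * hc

lemma pow_sub_pow_mem (𝔨 : Ideal R) (a b : R) (h : a - b ∈ 𝔨) (n : ℕ) : a ^ n - b ^ n ∈ 𝔨 := by
  obtain ⟨w, hw⟩ := sub_dvd_pow_sub_pow a b n
  rw [hw]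
  exact 𝔨.mul_mem_right _ h

lemma cech_key₁ (𝔨 : Ideal R) (h𝔨 : ∀ x ∈ 𝔨, ∀ y ∈ 𝔨, x * y = 0) (G Gk Gl Ak Al : R) (e : ℕ)
    (h1 : G - Gk ∈ 𝔨) (h2 : G - Gl ∈ 𝔨) (hk : Gk ^ e * (G - Gk) = Ak)
    (hl : Gl ^ e * (G - Gl) = Al) : Gl ^ e * (Gk - Gl) + Ak - Al = 0 := by
  have h3 : Gk - Gl ∈ 𝔨 := by
    have : Gk - Gl = (G - Gl) - (G - Gk) := by ring
    rw [this]
    exact 𝔨.sub_mem h2 h1
  have h4 : (Gk ^ e - Gl ^ e) * (G - Gk) = 0 := h𝔨 _ (pow_sub_pow_mem 𝔨 Gk Gl h3 e) _ h1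
  linear_combination h4 - hk + hl

lemma cech_key₂ (𝔨 : Ideal R) (h𝔨 : ∀ x ∈ 𝔨, ∀ y ∈ 𝔨, x * y = 0) (Gk Gl Ak Al : R)
    (e e' n : ℕ) (hn : n ≤ e') (h1 : Gk - Gl ∈ 𝔨) (hAk : Ak ∈ 𝔨)
    (h0 : Gl ^ n * (Gl ^ e * (Gk - Gl) + Ak - Al) = 0) :
    Gk ^ (e + e' + 1) + ((e + e' + 1 : ℕ) : R) * Gk ^ e' * Ak =
      Gl ^ (e + e' + 1) + ((e + e' + 1 : ℕ) : R) * Gl ^ e' * Al := by
  obtain ⟨m, rfl⟩ := Nat.exists_eq_add_of_le hn
  have hc : (Gk - Gl) * (Gk - Gl) = 0 := h𝔨 _ h1 _ h1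
  have H1 := add_pow_of_mul_self_eq_zero Gl (Gk - Gl) hc (e + (n + m))
  rw [add_sub_cancel] at H1
  have H2 : (Gk ^ (n + m) - Gl ^ (n + m)) * Ak = 0 :=
    h𝔨 _ (pow_sub_pow_mem 𝔨 Gk Gl h1 _) _ hAk
  linear_combination H1 + ((e + (n + m) + 1 : ℕ) : R) * H2 +
    ((e + (n + m) + 1 : ℕ) : R) * Gl ^ m * h0

end Alg

section Geom

variable {Z X : Scheme.{u}} (t : Z ⟶ X)

lemma app_res {U V : X.Opens} (h : V ≤ U) (x : Γ(X, U)) :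
    t.app V (res h x) = res (X := Z) (t.preimage_mono h) (t.app U x) :=
  ConcreteCategory.congr_hom (t.naturality (homOfLE h).op) x

end Geom

end Groth.Agent.H5.QAff
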