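import Groth.Agent.Lib.Helper5.QAff.QaA

/-! # Lifting a power of a function along a square-zero thickening: the Čech argument -/

set_option autoImplicit false
universe u
open CategoryTheory Limits AlgebraicGeometry TopologicalSpace Opposite

namespace Groth.Agent.H5.QAff

open Groth.Agent.H5.Glue Groth.Agent.H1.ThickAff

variable {Z X : Scheme.{u}} (t : Z ⟶ X) [IsClosedImmersion t]

lemma mem_ker_iff (V : X.affineOpens) (x : Γ(X, V.1)) :
    x ∈ t.ker.ideal V ↔ t.app V.1 x = 0 := by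
  rw [Scheme.Hom.ker_apply, RingHom.mem_ker]

lemma mul_eq_zero_of_mem (hK : t.ker * t.ker = ⊥) (V : X.affineOpens) (x : Γ(X, V.1))
    (hx : x ∈ t.ker.ideal V) (y : Γ(X, V.1)) (hy : y ∈ t.ker.ideal V) : x * y = 0 := by
  have h2 : x * y ∈ (t.ker * t.ker).ideal V := by
    rw [Scheme.IdealSheafData.ideal_mul]
    exact Ideal.mul_mem_mul hx hy
  rw [hK] at h2
  exact h2

lemma res_mem_ker {U V : X.Opens} (hU : IsAffineOpen U) (hV : IsAffineOpen V) (h : V ≤ U)
    (a : Γ(X, U)) (ha : a ∈ t.ker.ideal ⟨U, hU⟩) : res h a ∈ t.ker.ideal ⟨V, hV⟩ := by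
  rw [mem_ker_iff] at ha ⊢
  change t.app V (res h a) = 0
  rw [app_res]
  change res _ (t.app U a) = 0
  rw [show t.app U a = 0 from ha, map_zero]

/-- **Čech argument**: along a square-zero thickening `t : Z ⟶ X`, some positive power of a
function `f` on `Z` whose nonvanishing locus is affine lifts to `X`. -/
theorem exists_lift_pow_of_sqZero (ht : Function.Surjective t) (hK : t.ker * t.ker = ⊥)
    {ι : Type} [Fintype ι] (U : ι → X.Opens) (hU : ∀ k, IsAffineOpen (U k))
    (hcov : ⨆ k, U k = ⊤) (hUU : ∀ k l, IsAffineOpen (U k ⊓ U l))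
    (f : Γ(Z, ⊤)) (U₀ : X.Opens) (hU₀ : IsAffineOpen U₀) (hU₀f : t ⁻¹ᵁ U₀ = Z.basicOpen f) :
    ∃ (N : ℕ) (r : Γ(X, ⊤)), 0 < N ∧ t.appTop r = f ^ N := by
  classical
  -- lifts of `f`
  have hlift : ∀ k, ∃ g : Γ(X, U k), t.app (U k) g = res (X := Z) le_top f := fun k =>
    t.app_surjective (U k) (hU k) _
  choose g hg using hlift
  obtain ⟨g₀, hg₀⟩ := t.app_surjective U₀ hU₀ (res (X := Z) le_top f)
  have hW : ∀ k, X.basicOpen (g k) = U k ⊓ U₀ := by
    intro k
    apply opens_eq_of_preimage_eq t ht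
    rw [Scheme.preimage_basicOpen, hg k, Scheme.basicOpen_res]
    change _ = t ⁻¹ᵁ U k ⊓ t ⁻¹ᵁ U₀
    rw [hU₀f]
  have hWU₀ : ∀ k, X.basicOpen (g k) ≤ U₀ := fun k => (hW k).le.trans inf_le_right
  have hWaff : ∀ k, IsAffineOpen (X.basicOpen (g k)) := fun k => (hU k).basicOpen (g k)
  let δ : ∀ k, Γ(X, X.basicOpen (g k)) := fun k =>
    res (hWU₀ k) g₀ - res (X.basicOpen_le (g k)) (g k)
  have hδ : ∀ k, δ k ∈ t.ker.ideal ⟨_, hWaff k⟩ := by
    intro k
    rw [mem_ker_iff]
    change t.app (X.basicOpen (g k)) (res (hWU₀ k) g₀ - res (X.basicOpen_le (g k)) (g k)) = 0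
    rw [map_sub, app_res, app_res, hg₀, hg k, res_res, res_res, sub_self]
  -- clearing denominators
  have hden : ∀ k, ∃ (a : Γ(X, U k)) (e : ℕ), a ∈ t.ker.ideal ⟨U k, hU k⟩ ∧
      res (X.basicOpen_le (g k)) (g k) ^ e * δ k = res (X.basicOpen_le (g k)) a := by
    intro k
    have h1 := hδ k
    rw [← t.ker.map_ideal (U := ⟨_, hWaff k⟩) (V := ⟨U k, hU k⟩) (X.basicOpen_le (g k))] at h1
    haveI := (hU k).isLocalization_basicOpen (g k)
    obtain ⟨⟨a, s⟩, has⟩ := (IsLocalization.mem_map_algebraMap_iff (Submonoid.powers (g k))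
      Γ(X, X.basicOpen (g k))).mp h1
    obtain ⟨e, he⟩ := s.2
    refine ⟨a.1, e, a.2, ?_⟩
    have has' : δ k * res (X.basicOpen_le (g k)) (s : Γ(X, U k)) =
        res (X.basicOpen_le (g k)) a.1 := has
    rw [← he, map_pow] at has'
    rw [mul_comm]
    exact has'
  choose a₀ e₀ ha₀ hae₀ using hden
  let e : ℕ := Finset.univ.sup e₀
  have hee : ∀ k, e₀ k ≤ e := fun k => Finset.le_sup (f := e₀) (Finset.mem_univ k)
  obtain ⟨a, ha, hae⟩ : ∃ a : ∀ k, Γ(X, U k), (∀ k, a k ∈ t.ker.ideal ⟨U k, hU k⟩) ∧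
      ∀ k, res (X.basicOpen_le (g k)) (g k) ^ e * δ k = res (X.basicOpen_le (g k)) (a k) := by
    refine ⟨fun k => g k ^ (e - e₀ k) * a₀ k, fun k => Ideal.mul_mem_left _ _ (ha₀ k), ?_⟩
    intro k
    change _ = res (X.basicOpen_le (g k)) (g k ^ (e - e₀ k) * a₀ k)
    rw [map_mul, map_pow, ← hae₀ k, ← mul_assoc, ← pow_add, Nat.sub_add_cancel (hee k)]
  -- the obstruction on overlaps
  let h : ∀ k l, Γ(X, U k ⊓ U l) := fun k l => res inf_le_right (g l)
  let D₀ : ∀ k l, Γ(X, U k ⊓ U l) := fun k l =>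
    h k l ^ e * (res inf_le_left (g k) - h k l) + res inf_le_left (a k) - res inf_le_right (a l)
  have hT : ∀ k l, X.basicOpen (h k l) = (U k ⊓ U l) ⊓ X.basicOpen (g l) := fun k l =>
    Scheme.basicOpen_res _ _ _
  have hTl : ∀ k l, X.basicOpen (h k l) ≤ X.basicOpen (g l) := fun k l =>
    (hT k l).le.trans inf_le_right
  have hTk : ∀ k l, X.basicOpen (h k l) ≤ X.basicOpen (g k) := by
    intro k l
    rw [hT k l, hW l, hW k]
    exact le_inf (inf_le_left.trans inf_le_left) (inf_le_right.trans inf_le_right)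
  have hTaff : ∀ k l, IsAffineOpen (X.basicOpen (h k l)) := fun k l => (hUU k l).basicOpen _
  have hD₀ : ∀ k l, res (X.basicOpen_le (h k l)) (D₀ k l) = 0 := by
    intro k l
    have hT₀ : X.basicOpen (h k l) ≤ U₀ := (hTk k l).trans (hWU₀ k)
    have hTUk : X.basicOpen (h k l) ≤ U k := (X.basicOpen_le (h k l)).trans inf_le_left
    have hTUl : X.basicOpen (h k l) ≤ U l := (X.basicOpen_le (h k l)).trans inf_le_right
    have key := cech_key₁ (t.ker.ideal ⟨_, hTaff k l⟩)
      (mul_eq_zero_of_mem t hK ⟨_, hTaff k l⟩) (res hT₀ g₀) (res hTUk (g k)) (res hTUl (g l))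
      (res hTUk (a k)) (res hTUl (a l)) e ?_ ?_ ?_ ?_
    · change res (X.basicOpen_le (h k l)) (res inf_le_right (g l) ^ e *
        (res inf_le_left (g k) - res inf_le_right (g l)) + res inf_le_left (a k) -
          res inf_le_right (a l)) = 0
      rw [map_sub, map_add, map_mul, map_pow, map_sub, res_res, res_res, res_res, res_res]
      exact key
    · have := res_mem_ker t (hWaff k) (hTaff k l) (hTk k l) (δ k) (hδ k)
      change res (hTk k l) (res (hWU₀ k) g₀ - res (X.basicOpen_le (g k)) (g k)) ∈ _ at this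
      rw [map_sub, res_res, res_res] at this
      exact this
    · have := res_mem_ker t (hWaff l) (hTaff k l) (hTl k l) (δ l) (hδ l)
      change res (hTl k l) (res (hWU₀ l) g₀ - res (X.basicOpen_le (g l)) (g l)) ∈ _ at this
      rw [map_sub, res_res, res_res] at this
      exact this
    · have := congrArg (res (hTk k l)) (hae k)
      change res (hTk k l) (res (X.basicOpen_le (g k)) (g k) ^ e *
        (res (hWU₀ k) g₀ - res (X.basicOpen_le (g k)) (g k))) = _ at this
      rw [map_mul, map_pow, map_sub, res_res, res_res, res_res] at this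
      exact this
    · have := congrArg (res (hTl k l)) (hae l)
      change res (hTl k l) (res (X.basicOpen_le (g l)) (g l) ^ e *
        (res (hWU₀ l) g₀ - res (X.basicOpen_le (g l)) (g l))) = _ at this
      rw [map_mul, map_pow, map_sub, res_res, res_res, res_res] at this
      exact this
  have hn : ∀ k l, ∃ n : ℕ, h k l ^ n * D₀ k l = 0 := by
    intro k l
    haveI := (hUU k l).isLocalization_basicOpen (h k l)
    obtain ⟨⟨_, n, rfl⟩, hm⟩ := (IsLocalization.map_eq_zero_iff (Submonoid.powers (h k l))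
      Γ(X, X.basicOpen (h k l)) (D₀ k l)).mp (hD₀ k l)
    exact ⟨n, hm⟩
  choose n hn using hn
  let e' : ℕ := Finset.univ.sup (fun p : ι × ι => n p.1 p.2)
  have hne' : ∀ k l, n k l ≤ e' := fun k l =>
    Finset.le_sup (f := fun p : ι × ι => n p.1 p.2) (Finset.mem_univ (k, l))
  -- the local lifts of `f ^ (e + e' + 1)`
  let r : ∀ k, Γ(X, U k) := fun k =>
    g k ^ (e + e' + 1) + ((e + e' + 1 : ℕ) : Γ(X, U k)) * g k ^ e' * a k
  have hcompat : ∀ k l, res (inf_le_left : U k ⊓ U l ≤ U k) (r k) =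
      res (inf_le_right : U k ⊓ U l ≤ U l) (r l) := by
    intro k l
    have key := cech_key₂ (t.ker.ideal ⟨_, hUU k l⟩) (mul_eq_zero_of_mem t hK ⟨_, hUU k l⟩)
      (res inf_le_left (g k)) (h k l) (res inf_le_left (a k)) (res inf_le_right (a l))
      e e' (n k l) (hne' k l) ?_ (res_mem_ker t (hU k) (hUU k l) inf_le_left (a k) (ha k))
      (hn k l)
    · change res inf_le_left (g k ^ (e + e' + 1) + ((e + e' + 1 : ℕ) : Γ(X, U k)) * g k ^ e' * a k) =
        res inf_le_right (g l ^ (e + e' + 1) + ((e + e' + 1 : ℕ) : Γ(X, U l)) * g l ^ e' * a l)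
      simp only [map_add, map_mul, map_pow, map_natCast]
      exact key
    · rw [mem_ker_iff]
      change t.app (U k ⊓ U l) (res inf_le_left (g k) - res inf_le_right (g l)) = 0
      rw [map_sub, app_res, app_res, hg k, hg l, res_res, res_res, sub_self]
  obtain ⟨r₀, hr₀, -⟩ := existsUnique_glue_fn U ⊤ (fun _ => le_top) hcov.ge r hcompat
  refine ⟨e + e' + 1, r₀, Nat.succ_pos _, ?_⟩
  -- check on the cover of `Z`
  refine fn_ext_of_cover (X := Z) (fun k => t ⁻¹ᵁ U k) ⊤ (fun _ => le_top) ?_ _ _ (fun k => ?_)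
  · intro z _
    have hz : t z ∈ (⨆ k, U k : X.Opens) := by rw [hcov]; trivial
    obtain ⟨k, hk⟩ := Opens.mem_iSup.mp hz
    exact Opens.mem_iSup.mpr ⟨k, hk⟩
  · have h1 : res (X := Z) (le_top : t ⁻¹ᵁ U k ≤ ⊤) (t.appTop r₀) = t.app (U k) (r k) := by
      rw [← hr₀ k]
      exact (app_res t (le_top : U k ≤ ⊤) r₀).symm
    rw [h1, map_pow]
    change t.app (U k) (g k ^ (e + e' + 1) + ((e + e' + 1 : ℕ) : Γ(X, U k)) * g k ^ e' * a k) = _
    have h2 : t.app (U k) (a k) = 0 := (mem_ker_iff t ⟨U k, hU k⟩ (a k)).mp (ha k)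
    rw [map_add, map_mul, map_pow, h2, mul_zero, add_zero, hg k]

end Groth.Agent.H5.QAff
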