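import Groth.Agent.Lib.Helper5.QAff.QaB

/-! # Thickenings of quasi-affine schemes: the square-zero and finite order cases -/

set_option autoImplicit false
universe u
open CategoryTheory Limits AlgebraicGeometry TopologicalSpace Opposite

namespace Groth.Agent.H5.QAff

open Groth.Agent.H5.Glue Groth.Agent.H1.ThickAff

variable {Z X : Scheme.{u}}

/-- the open of a thickening with prescribed trace on the thin scheme. -/
lemma exists_opens_preimage_eq (t : Z ⟶ X) [IsClosedImmersion t] (ht : Function.Surjective t)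
    (V : Z.Opens) : ∃ U : X.Opens, t ⁻¹ᵁ U = V := by
  have hbij : Function.Bijective t := ⟨t.isEmbedding.injective, ht⟩
  have hhom : IsHomeomorph t :=
    (isHomeomorph_iff_continuous_isClosedMap_bijective).mpr
      ⟨t.continuous, t.isClosedEmbedding.isClosedMap, hbij⟩
  refine ⟨⟨t '' (V : Set Z), hhom.isOpenMap _ V.2⟩, ?_⟩
  ext z
  change t z ∈ t '' (V : Set Z) ↔ z ∈ V
  exact ⟨fun ⟨z', hz', e⟩ => hbij.1 e ▸ hz', fun hz => ⟨z, hz, rfl⟩⟩

/-- **a square-zero thickening of a quasi-affine scheme is quasi-affine.** -/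
theorem isQuasiAffine_of_sqZero (t : Z ⟶ X) [IsClosedImmersion t] (ht : Function.Surjective t)
    (hK : t.ker * t.ker = ⊥) [Z.IsQuasiAffine] : X.IsQuasiAffine := by
  classical
  haveI : CompactSpace X := compactSpace_of_surjective t ht
  -- a finite cover of `Z` by affine basic opens
  have hbasis := Scheme.IsQuasiAffine.isBasis_basicOpen Z
  have hex : ∀ z : Z, ∃ f : Γ(Z, ⊤), IsAffineOpen (Z.basicOpen f) ∧ z ∈ Z.basicOpen f := by
    intro z
    obtain ⟨_, ⟨_, ⟨f, hf, rfl⟩, rfl⟩, hz, -⟩ :=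
      hbasis.exists_subset_of_mem_open (Set.mem_univ z) isOpen_univ
    exact ⟨f, hf, hz⟩
  choose F hFaff hFmem using hex
  obtain ⟨s, hs⟩ := isCompact_univ.elim_finite_subcover (fun z => ((Z.basicOpen (F z) : Z.Opens) : Set Z))
    (fun z => (Z.basicOpen (F z)).2) (fun z _ => Set.mem_iUnion.mpr ⟨z, hFmem z⟩)
  -- the corresponding cover of `X`
  choose V hV using fun z : Z => exists_opens_preimage_eq t ht (Z.basicOpen (F z))
  let ι : Type := Fin s.card
  let idx : ι → Z := fun k => (s.equivFin.symm k).1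
  have hidx : ∀ z ∈ s, ∃ k : ι, idx k = z := fun z hz =>
    ⟨s.equivFin ⟨z, hz⟩, by simp [idx]⟩
  let U : ι → X.Opens := fun k => V (idx k)
  have hUpre : ∀ k, t ⁻¹ᵁ U k = Z.basicOpen (F (idx k)) := fun k => hV (idx k)
  have hU : ∀ k, IsAffineOpen (U k) := fun k =>
    isAffineOpen_of_preimage t ht (U k) (by rw [hUpre k]; exact hFaff _)
  have hUU : ∀ k l, IsAffineOpen (U k ⊓ U l) := by
    intro k l
    apply isAffineOpen_of_preimage t ht
    have : t ⁻¹ᵁ (U k ⊓ U l) = Z.basicOpen (res (X := Z)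
        (le_top : Z.basicOpen (F (idx k)) ≤ ⊤) (F (idx l))) := by
      rw [Scheme.basicOpen_res]
      change t ⁻¹ᵁ U k ⊓ t ⁻¹ᵁ U l = _
      rw [hUpre k, hUpre l]
    rw [this]
    exact (hFaff (idx k)).basicOpen _
  have hcov : ⨆ k, U k = ⊤ := by
    rw [eq_top_iff]
    intro x _
    obtain ⟨z, rfl⟩ := ht x
    have hz : z ∈ ⋃ i ∈ s, ((Z.basicOpen (F i) : Z.Opens) : Set Z) := hs (Set.mem_univ z)
    obtain ⟨z', hz', hzz'⟩ := Set.mem_iUnion₂.mp hz
    obtain ⟨k, hk⟩ := hidx z' hz'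
    refine Opens.mem_iSup.mpr ⟨k, ?_⟩
    change z ∈ t ⁻¹ᵁ U k
    rw [hUpre k, hk]
    exact hzz'
  refine Scheme.IsQuasiAffine.of_forall_exists_mem_basicOpen X (fun x => ?_)
  obtain ⟨z, rfl⟩ := ht x
  have hU₀ : IsAffineOpen (V z) :=
    isAffineOpen_of_preimage t ht (V z) (by rw [hV z]; exact hFaff z)
  obtain ⟨N, r, hN, hr⟩ := exists_lift_pow_of_sqZero t ht hK U hU hcov hUU (F z) (V z) hU₀ (hV z)
  have hpre : t ⁻¹ᵁ X.basicOpen r = Z.basicOpen (F z) := by
    rw [Scheme.preimage_basicOpen_top, hr, Scheme.basicOpen_pow _ _ hN]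
  refine ⟨r, isAffineOpen_of_preimage t ht _ (by rw [hpre]; exact hFaff z), ?_⟩
  change z ∈ t ⁻¹ᵁ X.basicOpen r
  rw [hpre]
  exact hFmem z

/-- **a finite order thickening of a quasi-affine scheme is quasi-affine.** -/
theorem isQuasiAffine_of_ker_pow_eq_bot : ∀ (n : ℕ) {Z X : Scheme.{u}} (t : Z ⟶ X)
    [IsClosedImmersion t] (_ : Function.Surjective t) [Z.IsQuasiAffine] (_ : t.ker ^ n = ⊥),
    X.IsQuasiAffine
  | 0, Z, X, t, _, ht, _, hK => by
    apply isQuasiAffine_of_sqZero t ht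
    rw [pow_zero] at hK
    rw [eq_bot_iff, ← hK]
    exact le_top
  | 1, Z, X, t, _, ht, _, hK => by
    apply isQuasiAffine_of_sqZero t ht
    rw [pow_one] at hK
    rw [hK, Scheme.IdealSheafData.mul_bot]
  | (n + 2), Z, X, t, _, ht, _, hK => by
    let J : X.IdealSheafData := t.ker ^ (n + 1)
    let ι : J.subscheme ⟶ X := J.subschemeι
    have hι : ι.ker = J := J.ker_subschemeι
    have hle : ι.ker ≤ t.ker := by
      rw [hι]
      calc t.ker ^ (n + 1) ≤ t.ker ^ 1 := pow_le_pow_of_le_one bot_le le_top (by omega)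
        _ = t.ker := pow_one _
    let s : Z ⟶ J.subscheme := IsClosedImmersion.lift ι t hle
    have hfac : s ≫ ι = t := IsClosedImmersion.lift_fac ι t hle
    haveI : IsClosedImmersion (s ≫ ι) := by rw [hfac]; infer_instance
    haveI : IsClosedImmersion s := IsClosedImmersion.of_comp s ι
    have hs : Function.Surjective s := by
      intro z
      obtain ⟨x, hx⟩ := ht (ι z)
      refine ⟨x, ι.isEmbedding.injective ?_⟩
      rw [← hx, ← hfac]
      rfl
    have hιs : Function.Surjective ι := by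
      intro x'
      obtain ⟨x, hx⟩ := ht x'
      refine ⟨s x, ?_⟩
      rw [← hx, ← hfac]
      rfl
    have hsK : s.ker ^ (n + 1) = ⊥ := by
      apply ker_pow_eq_bot_of_comp s ι
      rw [hfac, hι]
    haveI : J.subscheme.IsQuasiAffine := isQuasiAffine_of_ker_pow_eq_bot (n + 1) s hs hsK
    apply isQuasiAffine_of_sqZero ι hιs
    rw [hι, eq_bot_iff, ← hK]
    change t.ker ^ (n + 1) * t.ker ^ (n + 1) ≤ _
    rw [← pow_add]
    exact pow_le_pow_of_le_one bot_le le_top (by omega)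

end Groth.Agent.H5.QAff
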