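import Groth.Agent.Lib.Helper5.QAff.QaC
import Groth.Agent.Lib.Helper5.ABU.AbuG
import Groth.Agent.Lib.Helper5.NApprox.FgIdA

/-! # Thickenings of quasi-affine schemes are quasi-affine -/

set_option autoImplicit false
universe u
open CategoryTheory Limits AlgebraicGeometry TopologicalSpace Opposite

namespace Groth.Agent.H5.QAff

open Groth.Agent.H5.Glue Groth.Agent.H1.ThickAff Groth.Agent.H5.ABU Groth.Agent.H5.NApprox

variable {Z X : Scheme.{u}}

/-- **a thickening of a quasi-affine scheme is quasi-affine** (no finiteness hypothesis). -/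
theorem isQuasiAffine_of_thickening (t : Z ⟶ X) [IsClosedImmersion t]
    (ht : Function.Surjective t) [Z.IsQuasiAffine] : X.IsQuasiAffine := by
  haveI : CompactSpace X := compactSpace_of_surjective t ht
  haveI : QuasiSeparatedSpace Z := inferInstance
  haveI : QuasiSeparatedSpace X := quasiSeparatedSpace_of_thickening t ht
  obtain ⟨I, pI, dI, nI, D, c, hc, hprops, hcl, ⟨e⟩⟩ := exists_limit_closed_fp t
  haveI : ∀ μ, IsClosedImmersion (D.obj μ).hom := fun μ => (hprops μ).1
  haveI : ∀ μ, LocallyOfFinitePresentation (D.obj μ).hom := fun μ => (hprops μ).2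
  haveI : ∀ {μ ν : Iᵒᵖ} (a : μ ⟶ ν), IsClosedImmersion ((D ⋙ Over.forget X).map a) :=
    fun a => hcl _ _ a
  haveI : ∀ {μ ν : Iᵒᵖ} (a : μ ⟶ ν), IsAffineHom ((D ⋙ Over.forget X).map a) :=
    fun a => inferInstance
  haveI hcptD : ∀ μ, CompactSpace ((D ⋙ Over.forget X).obj μ) := fun μ =>
    (QuasiCompact.compactSpace_of_compactSpace (D.obj μ).hom : CompactSpace (D.obj μ).left)
  haveI hqsD : ∀ μ, QuasiSeparatedSpace ((D ⋙ Over.forget X).obj μ) := fun μ =>
    (quasiSeparatedSpace_of_quasiSeparated (D.obj μ).hom : QuasiSeparatedSpace (D.obj μ).left)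
  haveI : (Over.mk t).left.IsQuasiAffine := ‹Z.IsQuasiAffine›
  haveI : Scheme.IsQuasiAffine ((Over.forget X).mapCone c).pt :=
    (Scheme.IsQuasiAffine.of_isAffineHom e.hom.left : Scheme.IsQuasiAffine c.pt.left)
  obtain ⟨μ, hμ⟩ := Scheme.exists_isQuasiAffine_of_isLimit (D ⋙ Over.forget X)
    ((Over.forget X).mapCone c) (isLimitForget D c hc)
  haveI : (D.obj μ).left.IsQuasiAffine := hμ
  have hcpt : c.pt.hom = e.hom.left ≫ t := (Over.w e.hom).symm
  have hw : Function.Surjective (D.obj μ).hom := by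
    intro x
    obtain ⟨z, rfl⟩ := ht x
    refine ⟨(c.π.app μ).left (e.inv.left z), ?_⟩
    have h1 : (c.π.app μ).left ≫ (D.obj μ).hom = c.pt.hom := Over.w (c.π.app μ)
    have h2 : e.inv.left ≫ (c.π.app μ).left ≫ (D.obj μ).hom = t := by
      rw [h1, hcpt, ← Category.assoc, ← Over.comp_left, Iso.inv_hom_id]
      exact Category.id_comp _
    have h3 : (e.inv.left ≫ (c.π.app μ).left ≫ (D.obj μ).hom) z = t z := by rw [h2]
    exact h3
  have hft : BlowUp.IsFiniteTypeIdeal (D.obj μ).hom.ker := fun U => fg_ker_of_lfp (D.obj μ).hom U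
  obtain ⟨n, hn⟩ := isNilpotent_of_ft_of_le_nilradical (D.obj μ).hom.ker hft
    (ker_le_nilradical_of_surjective (D.obj μ).hom hw)
  exact isQuasiAffine_of_ker_pow_eq_bot n (D.obj μ).hom hw hn

/-- **S9204**: a scheme is quasi-affine iff a closed subscheme with the same underlying space is. -/
theorem isQuasiAffine_iff_of_isHomeomorph (i : Z ⟶ X) [IsClosedImmersion i]
    (hi : IsHomeomorph i.base) : X.IsQuasiAffine ↔ Z.IsQuasiAffine :=
  ⟨fun _ => Scheme.IsQuasiAffine.of_isAffineHom i,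
    fun _ => isQuasiAffine_of_thickening i hi.surjective⟩

end Groth.Agent.H5.QAff
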